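import Mathlib

/-!
Abstract coordinates for the Sylow 2-subgroups of `SU₃(2ⁿ)`: pairs `(z, y)` with `y + yˢ = z·zˢ`
and product `(z, y)(z', y') = (z + z', y + y' + zˢ·z')`.
-/

set_option autoImplicit false

namespace CfsgLib.SylowU3

/-- The field data: an involutive automorphism in characteristic two with a trace-one element. -/
structure UField (F : Type*) [Field F] (s : F →+* F) (q : ℕ) : Prop where
  two : ∀ x : F, x + x = 0
  invol : ∀ x : F, s (s x) = x
  trace : ∃ a : F, a + s a = 1
  card_fixed : Nat.card {x : F // s x = x} = q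
  card_trace : ∀ c : F, s c = c → Nat.card {y : F // y + s y = c} = q
  card_norm : ∀ c : F, s c = c → c ≠ 0 → Nat.card {z : F // z * s z = c} = q + 1
  card_all : Nat.card F = q ^ 2
  q_pos : q ≠ 0

section Field

variable {F : Type*} [Field F]

/-- The field data of a field with `q²` elements, `q = 2ⁿ`. -/
theorem uField_of_card [Fintype F] (n : ℕ) (hF : Fintype.card F = (2 ^ n) ^ 2) (s : F →+* F)
    (hs : ∀ x, s x = x ^ (2 ^ n)) : UField F s (2 ^ n) := by
  classical
  set q := 2 ^ n with hq
  have hq1 : 1 < q := by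
    by_contra h
    have := Fintype.one_lt_card (α := F)
    rw [hF] at this
    interval_cases q <;> simp at this
  have h2dvd : 2 ∣ Fintype.card F := by
    rw [hF, sq]
    refine Dvd.dvd.mul_right (dvd_pow_self 2 ?_) _
    intro h0; rw [hq, h0] at hq1; simp at hq1
  have hchar : ringChar F = 2 := by
    obtain ⟨p, hp⟩ := CharP.exists F
    obtain ⟨⟨r, hr⟩, hpr, hcard⟩ := FiniteField.card F p
    rw [hcard] at h2dvd
    have : (2 : ℕ) = p := (Nat.prime_dvd_prime_iff_eq Nat.prime_two hpr).mp (Nat.prime_two.dvd_of_dvd_pow h2dvd)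
    rw [ringChar.eq F p, this]
  haveI : CharP F 2 := hchar ▸ ringChar.charP F
  have two : ∀ x : F, x + x = 0 := CharTwo.add_self_eq_zero
  have invol : ∀ x, s (s x) = x := fun x => by
    rw [hs, hs, ← pow_mul, ← sq, ← hF, FiniteField.pow_card]
  have addone : ∀ x c : F, x + s x = c → s c = c := fun x c h => by
    rw [← h, map_add, invol, add_comm]
  -- root bounds
  have bound : ∀ (m : ℕ), 1 ≤ m → ∀ (S : Finset F) (c : F), (∀ x ∈ S, x ^ m = c) → S.card ≤ m := by
    intro m hm S c h
    calc S.card ≤ (Polynomial.nthRoots m c).toFinset.card := Finset.card_le_card fun x hx => by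
          simpa [Polynomial.mem_nthRoots (by omega : 0 < m)] using h x hx
      _ ≤ Multiset.card (Polynomial.nthRoots m c) := Multiset.toFinset_card_le _
      _ ≤ m := Polynomial.card_nthRoots m c
  let Fix : Finset F := Finset.univ.filter (fun x => s x = x)
  have hfixle : Fix.card ≤ q := by
    have h1 : (Fix.erase 0).card ≤ q - 1 := by
      refine bound (q - 1) (by omega) _ 1 fun x hx => ?_
      obtain ⟨hx0, hx'⟩ := Finset.mem_erase.mp hx
      have hsx := (Finset.mem_filter.mp hx').2
      rw [hs] at hsx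
      apply mul_right_cancel₀ hx0
      rw [one_mul, ← pow_succ, Nat.sub_add_cancel hq1.le, hsx]
    have h2 : Fix.card ≤ (Fix.erase 0).card + 1 := by
      by_cases h : (0 : F) ∈ Fix
      · rw [Finset.card_erase_add_one h]
      · rw [Finset.erase_eq_of_notMem h]; omega
    omega
  -- the trace
  let T : F →+ F := AddMonoidHom.mk' (fun x => x + s x) (fun a b => by simp only [map_add]; abel)
  have hTker : ∀ x, x ∈ T.ker ↔ s x = x := fun x => by
    show x + s x = 0 ↔ _
    constructor
    · intro h
      calc s x = x + x + s x := by rw [two, zero_add]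
        _ = x + (x + s x) := add_assoc _ _ _
        _ = x := by rw [h, add_zero]
    · intro h; rw [h, two]
  have hkerc : Nat.card T.ker = Fix.card := by
    rw [Nat.card_eq_fintype_card, ← Fintype.card_coe]
    exact Fintype.card_congr (Equiv.subtypeEquivRight fun x => by simp [Fix, hTker])
  let R : Finset F := Finset.univ.image (fun x => x + s x)
  have hRsub : R ⊆ Fix := fun c hc => by
    obtain ⟨x, -, rfl⟩ := Finset.mem_image.mp hc
    exact Finset.mem_filter.mpr ⟨Finset.mem_univ _, addone x _ rfl⟩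
  have hrangec : Nat.card T.range = R.card := by
    rw [Nat.card_eq_fintype_card, ← Fintype.card_coe]
    exact Fintype.card_congr (Equiv.subtypeEquivRight fun x => by simp [R, T, AddMonoidHom.mem_range])
  have hprod : R.card * Fix.card = q ^ 2 := by
    rw [← hkerc, ← hrangec, ← hF, ← Nat.card_eq_fintype_card,
      AddSubgroup.card_eq_card_quotient_mul_card_addSubgroup T.ker,
      Nat.card_congr (QuotientAddGroup.quotientKerEquivRange T).toEquiv]
  have hRle := Finset.card_le_card hRsub
  have hfix : Fix.card = q := by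
    rcases Nat.lt_or_ge Fix.card q with h | h
    · exfalso
      have := Nat.mul_lt_mul_of_le_of_lt (hRle.trans h.le) h (by omega : 0 < q)
      rw [hprod, sq] at this
      omega
    · omega
  have hR : R = Fix := Finset.eq_of_subset_of_card_le hRsub (by
    rw [hfix] at hprod ⊢
    rw [sq] at hprod
    exact (Nat.eq_of_mul_eq_mul_right (by omega) hprod).ge)
  have hfib : ∀ c : F, s c = c → Nat.card {y : F // y + s y = c} = q := by
    intro c hc
    have hcR : c ∈ R := hR ▸ Finset.mem_filter.mpr ⟨Finset.mem_univ _, hc⟩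
    obtain ⟨y₀, -, hy₀⟩ := Finset.mem_image.mp hcR
    rw [← hfix, ← hkerc]
    refine Nat.card_congr ⟨fun y => ⟨y.1 + y₀, ?_⟩, fun k => ⟨k.1 + y₀, ?_⟩, fun y => ?_, fun k => ?_⟩
    · rw [AddMonoidHom.mem_ker]
      show y.1 + y₀ + s (y.1 + y₀) = 0
      rw [map_add, add_add_add_comm, y.2, hy₀, two]
    · have hk : k.1 + s k.1 = 0 := k.2
      rw [map_add, add_add_add_comm, hk, zero_add, hy₀]
    · exact Subtype.ext (by simp [add_assoc, two])
    · exact Subtype.ext (by simp [add_assoc, two])
  -- the norm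
  let N : Fˣ →* Fˣ := MonoidHom.mk' (fun u => u * Units.map s.toMonoidHom u) (fun a b => by
    simp only [map_mul]; exact mul_mul_mul_comm _ _ _ _)
  have hNval : ∀ u : Fˣ, ((N u : Fˣ) : F) = u * s u := fun u => rfl
  have hNker : Nat.card N.ker ≤ q + 1 := by
    let f : N.ker → F := fun u => ((u : Fˣ) : F)
    have hf : Function.Injective f := fun a b h => Subtype.ext (Units.ext h)
    calc Nat.card N.ker = (Finset.univ.image f).card := by
          rw [Finset.card_image_of_injective _ hf, Finset.card_univ, Nat.card_eq_fintype_card]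
      _ ≤ q + 1 := bound (q + 1) (by omega) _ 1 fun x hx => by
          obtain ⟨u, -, rfl⟩ := Finset.mem_image.mp hx
          have := congrArg Units.val (MonoidHom.mem_ker.mp u.2)
          rw [hNval, hs] at this
          rw [pow_succ']; exact this
  have hNran : Nat.card N.range ≤ q - 1 := by
    let f : N.range → F := fun u => ((u : Fˣ) : F)
    have hf : Function.Injective f := fun a b h => Subtype.ext (Units.ext h)
    calc Nat.card N.range = (Finset.univ.image f).card := by
          rw [Finset.card_image_of_injective _ hf, Finset.card_univ, Nat.card_eq_fintype_card]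
      _ ≤ (Fix.erase 0).card := Finset.card_le_card fun x hx => by
          obtain ⟨⟨_, u, rfl⟩, -, rfl⟩ := Finset.mem_image.mp hx
          refine Finset.mem_erase.mpr ⟨Units.ne_zero _, Finset.mem_filter.mpr ⟨Finset.mem_univ _, ?_⟩⟩
          show s ((N u : Fˣ) : F) = ((N u : Fˣ) : F)
          rw [hNval, map_mul, invol, mul_comm]
      _ = q - 1 := by
          rw [Finset.card_erase_of_mem (show (0 : F) ∈ Fix from Finset.mem_filter.mpr ⟨Finset.mem_univ _, map_zero s⟩), hfix]
  have hNprod : Nat.card N.ker * Nat.card N.range = (q - 1) * (q + 1) := by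
    have h1 := Subgroup.card_eq_card_quotient_mul_card_subgroup N.ker
    rw [Nat.card_congr (QuotientGroup.quotientKerEquivRange N).toEquiv, Nat.card_units,
      Nat.card_eq_fintype_card (α := F), hF] at h1
    rw [mul_comm, ← h1]
    obtain ⟨r, hr⟩ : ∃ r, q = r + 1 := ⟨q - 1, by omega⟩
    rw [hr, Nat.add_sub_cancel, add_sq]
    have : r ^ 2 + 2 * r * 1 + 1 ^ 2 - 1 = r * (r + 1 + 1) := by
      rw [Nat.sub_eq_iff_eq_add (by omega)]; ring
    rw [this]
  have hker : Nat.card N.ker = q + 1 := by
    refine le_antisymm hNker ?_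
    by_contra h
    have h3 := Nat.mul_lt_mul_of_lt_of_le (lt_of_not_ge h) hNran (by omega : 0 < q - 1)
    rw [hNprod, mul_comm] at h3
    omega
  have hran : Nat.card N.range = q - 1 := by
    rw [hker, mul_comm (q - 1)] at hNprod
    exact Nat.eq_of_mul_eq_mul_left (by omega) hNprod
  refine ⟨two, invol, ?_, ?_, hfib, ?_, by rw [Nat.card_eq_fintype_card, hF], by omega⟩
  · have h1 : (1 : F) ∈ R := hR ▸ Finset.mem_filter.mpr ⟨Finset.mem_univ _, map_one s⟩
    obtain ⟨a, -, ha⟩ := Finset.mem_image.mp h1
    exact ⟨a, ha⟩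
  · rw [← hfix, Nat.card_eq_fintype_card, Fintype.card_subtype]
  · intro c hc hc0
    have hcr : (Units.mk0 c hc0) ∈ N.range := by
      let f : N.range → F := fun u => ((u : Fˣ) : F)
      have hf : Function.Injective f := fun a b h => Subtype.ext (Units.ext h)
      have hsub : Finset.univ.image f ⊆ Fix.erase 0 := fun x hx => by
        obtain ⟨⟨_, u, rfl⟩, -, rfl⟩ := Finset.mem_image.mp hx
        refine Finset.mem_erase.mpr ⟨Units.ne_zero _, Finset.mem_filter.mpr ⟨Finset.mem_univ _, ?_⟩⟩
        show s ((N u : Fˣ) : F) = ((N u : Fˣ) : F)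
        rw [hNval, map_mul, invol, mul_comm]
      have heq := Finset.eq_of_subset_of_card_le hsub (by
        rw [Finset.card_image_of_injective _ hf, Finset.card_univ, ← Nat.card_eq_fintype_card, hran,
          Finset.card_erase_of_mem (show (0 : F) ∈ Fix from Finset.mem_filter.mpr ⟨Finset.mem_univ _, map_zero s⟩), hfix])
      have : c ∈ Finset.univ.image f := heq ▸ Finset.mem_erase.mpr ⟨hc0, Finset.mem_filter.mpr ⟨Finset.mem_univ _, hc⟩⟩
      obtain ⟨u, -, hu⟩ := Finset.mem_image.mp this
      rw [show Units.mk0 c hc0 = (u : Fˣ) from Units.ext hu.symm]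
      exact u.2
    obtain ⟨u₀, hu₀⟩ := hcr
    have hu : (u₀ : F) * s u₀ = c := congrArg Units.val hu₀
    rw [← hker]
    refine Nat.card_congr (Equiv.ofBijective
      (fun z : {z : F // z * s z = c} => (⟨(Units.mk0 z.1 (fun h0 => hc0 (by rw [← z.2, h0, zero_mul]))) / u₀, by
        rw [MonoidHom.mem_ker, map_div, div_eq_one, hu₀]
        exact Units.ext z.2⟩ : N.ker)) ⟨?_, ?_⟩)
    · intro z w h
      exact Subtype.ext (congrArg Units.val (div_left_inj.mp (congrArg Subtype.val h)))
    · intro k
      refine ⟨⟨((k : Fˣ) : F) * u₀, ?_⟩, Subtype.ext (Units.ext ?_)⟩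
      · have hk : ((k : Fˣ) : F) * s (k : Fˣ) = 1 := congrArg Units.val (MonoidHom.mem_ker.mp k.2)
        rw [map_mul, mul_mul_mul_comm, hk, one_mul, hu]
      · simp

end Field

/-- Coordinates on a group. -/
structure UCoords (T : Type*) [Group T] {F : Type*} [Field F] (s : F →+* F) where
  c : T → F × F
  inj : Function.Injective c
  cond : ∀ x, (c x).2 + s (c x).2 = (c x).1 * s (c x).1
  surj : ∀ z y : F, y + s y = z * s z → ∃ x, c x = (z, y)
  mul : ∀ x x', c (x * x') = ((c x).1 + (c x').1, (c x).2 + (c x').2 + s (c x).1 * (c x').1)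

namespace UCoords

variable {T : Type*} [Group T] {F : Type*} [Field F] {s : F →+* F} {q : ℕ}

/-- Transport of coordinates along an isomorphism. -/
def congr (h : UCoords T s) {U : Type*} [Group U] (e : U ≃* T) : UCoords U s where
  c u := h.c (e u)
  inj := h.inj.comp e.injective
  cond u := h.cond (e u)
  surj z y hy := by
    obtain ⟨x, hx⟩ := h.surj z y hy
    exact ⟨e.symm x, by rw [e.apply_symm_apply, hx]⟩
  mul u u' := by rw [map_mul, h.mul]

variable (h : UCoords T s) (hF : UField F s q)

include h hF in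
theorem c_one : h.c 1 = (0, 0) := by
  have h1 := h.mul 1 1
  rw [mul_one] at h1
  have e1 : (h.c 1).1 = 0 := by
    have := congrArg Prod.fst h1
    simp only at this
    rw [hF.two] at this; exact this
  have e2 := congrArg Prod.snd h1
  simp only [e1, map_zero, zero_mul, add_zero] at e2
  rw [hF.two] at e2
  exact Prod.ext e1 e2

include h hF in
theorem eq_one_iff (x : T) : x = 1 ↔ (h.c x).1 = 0 ∧ (h.c x).2 = 0 := by
  refine ⟨fun hx => by rw [hx, h.c_one hF]; exact ⟨rfl, rfl⟩, fun hx => h.inj ?_⟩
  rw [h.c_one hF]; exact Prod.ext hx.1 hx.2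

include h hF in
theorem sq_coords (x : T) : h.c (x * x) = (0, (h.c x).1 * s (h.c x).1) := by
  rw [h.mul, hF.two, hF.two, zero_add, mul_comm]

theorem commute_iff (x x' : T) : x * x' = x' * x ↔ s (h.c x).1 * (h.c x').1 = s (h.c x').1 * (h.c x).1 := by
  constructor
  · intro he
    have := congrArg (fun w => (h.c w).2) he
    simp only [h.mul] at this
    rw [add_comm (h.c x').2] at this
    exact add_left_cancel this
  · intro he
    apply h.inj
    rw [h.mul, h.mul, he, add_comm (h.c x).1, add_comm (h.c x).2]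

include h hF in
theorem mul_self_eq_one_iff (x : T) : x * x = 1 ↔ (h.c x).1 = 0 := by
  rw [h.eq_one_iff hF, h.sq_coords hF]
  simp [mul_eq_zero]

include h hF in
theorem exists_fst (z : F) : ∃ x, (h.c x).1 = z := by
  have hc : s (z * s z) = z * s z := by rw [map_mul, hF.invol, mul_comm]
  have : Nat.card {y : F // y + s y = z * s z} ≠ 0 := by rw [hF.card_trace _ hc]; exact hF.q_pos
  obtain ⟨⟨y, hy⟩⟩ := (Nat.card_ne_zero.mp this).1
  obtain ⟨x, hx⟩ := h.surj z y hy
  exact ⟨x, by rw [hx]⟩

include h hF in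
theorem mem_center_iff (x : T) : x ∈ Subgroup.center T ↔ (h.c x).1 = 0 := by
  rw [Subgroup.mem_center_iff]
  constructor
  · intro hx
    obtain ⟨a, ha⟩ := hF.trace
    obtain ⟨g₁, hg₁⟩ := h.exists_fst hF 1
    obtain ⟨g₂, hg₂⟩ := h.exists_fst hF a
    have e1 := (h.commute_iff g₁ x).mp (hx g₁)
    rw [hg₁, map_one, one_mul, mul_one] at e1
    have e2 := (h.commute_iff g₂ x).mp (hx g₂)
    rw [hg₂, ← e1] at e2
    have : (h.c x).1 * (a + s a) = 0 := by
      rw [mul_add, mul_comm _ (s a), e2, hF.two]
    rwa [ha, mul_one] at this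
  · intro hx g
    rw [h.commute_iff, hx, map_zero, zero_mul, mul_zero]

include h hF in
theorem mem_center_iff_sq (x : T) : x ∈ Subgroup.center T ↔ x * x = 1 := by
  rw [h.mem_center_iff hF, h.mul_self_eq_one_iff hF]

include h hF in
theorem sq_mem_center (x : T) : x * x ∈ Subgroup.center T := by
  rw [h.mem_center_iff hF, h.sq_coords hF]

include h hF in
theorem card_center : Nat.card ↥(Subgroup.center T) = q := by
  rw [← hF.card_fixed]
  refine Nat.card_congr (Equiv.ofBijective (fun x : ↥(Subgroup.center T) => (⟨(h.c x).2, ?_⟩ : {y : F // s y = y})) ⟨?_, ?_⟩)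
  · have h1 := h.cond (x : T)
    rw [(h.mem_center_iff hF _).mp x.2, zero_mul] at h1
    calc s (h.c (x : T)).2 = (h.c (x : T)).2 + (h.c (x : T)).2 + s (h.c (x : T)).2 := by rw [hF.two, zero_add]
      _ = (h.c (x : T)).2 := by rw [add_assoc, h1, add_zero]
  · intro x y hxy
    apply Subtype.ext
    apply h.inj
    exact Prod.ext (((h.mem_center_iff hF _).mp x.2).trans ((h.mem_center_iff hF _).mp y.2).symm) (congrArg Subtype.val hxy)
  · intro y
    obtain ⟨x, hx⟩ := h.surj 0 y.1 (by rw [y.2, hF.two, zero_mul])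
    exact ⟨⟨x, (h.mem_center_iff hF x).mpr (by rw [hx])⟩, Subtype.ext (by simp [hx])⟩

include h hF in
theorem card_eq [Fintype F] : Nat.card T = q ^ 3 := by
  classical
  let e : T ≃ Σ z : F, {y : F // y + s y = z * s z} := Equiv.ofBijective
    (fun x => ⟨(h.c x).1, (h.c x).2, h.cond x⟩)
    ⟨fun x y hxy => h.inj (by
      have h1 : (h.c x).1 = (h.c y).1 := congrArg Sigma.fst hxy
      have h2 : (h.c x).2 = (h.c y).2 := by
        have := congrArg (fun p : Σ z : F, {y : F // y + s y = z * s z} => (p.2 : F)) hxy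
        exact this
      exact Prod.ext h1 h2),
     fun p => by
      obtain ⟨z, y, hy⟩ := p
      obtain ⟨x, hx⟩ := h.surj z y hy
      have h1 : (h.c x).1 = z := by rw [hx]
      have h2 : (h.c x).2 = y := by rw [hx]
      subst h1; subst h2
      exact ⟨x, rfl⟩⟩
  rw [Nat.card_congr e, Nat.card_sigma, Finset.sum_congr rfl (fun z _ => hF.card_trace _ (by
    rw [map_mul, hF.invol, mul_comm]))]
  rw [Finset.sum_const, smul_eq_mul, Finset.card_univ, ← Nat.card_eq_fintype_card, hF.card_all]
  ring

include h hF in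
theorem card_sq_roots [Fintype F] {w : T} (hw : w ∈ Subgroup.center T) (hw1 : w ≠ 1) :
    Nat.card {x : T // x * x = w} = (q + 1) * q := by
  classical
  have hw0 := (h.mem_center_iff hF w).mp hw
  have hy0 : (h.c w).2 ≠ 0 := fun h0 => hw1 ((h.eq_one_iff hF w).mpr ⟨hw0, h0⟩)
  have hyfix : s (h.c w).2 = (h.c w).2 := by
    have h1 := h.cond w
    rw [hw0, zero_mul] at h1
    calc s (h.c w).2 = (h.c w).2 + (h.c w).2 + s (h.c w).2 := by rw [hF.two, zero_add]
      _ = (h.c w).2 := by rw [add_assoc, h1, add_zero]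
  generalize hy : (h.c w).2 = y₀ at hy0 hyfix
  let e : {x : T // x * x = w} ≃ Σ z : {z : F // z * s z = y₀}, {y : F // y + s y = y₀} := Equiv.ofBijective
    (fun x => ⟨⟨(h.c x.1).1, by
        have := congrArg Prod.snd (congrArg h.c x.2)
        rwa [h.sq_coords hF, hy] at this⟩, ⟨(h.c x.1).2, by
        have := congrArg Prod.snd (congrArg h.c x.2)
        rw [h.sq_coords hF, hy] at this
        simp only at this; rw [h.cond x.1, this]⟩⟩)
    ⟨fun x y hxy => by
      apply Subtype.ext
      apply h.inj
      exact Prod.ext (congrArg (fun p : Σ z : {z : F // z * s z = y₀}, {y : F // y + s y = y₀} => (p.1 : F)) hxy)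
        (congrArg (fun p : Σ z : {z : F // z * s z = y₀}, {y : F // y + s y = y₀} => (p.2 : F)) hxy),
     fun p => by
      obtain ⟨⟨z, hz⟩, ⟨y, hy'⟩⟩ := p
      obtain ⟨x, hx⟩ := h.surj z y (by rw [hy', hz])
      refine ⟨⟨x, h.inj ?_⟩, ?_⟩
      · rw [h.sq_coords hF, hx]
        exact Prod.ext hw0.symm (hz.trans hy.symm)
      · have h1 : (h.c x).1 = z := by rw [hx]
        have h2 : (h.c x).2 = y := by rw [hx]
        subst h1; subst h2
        rfl⟩
  rw [Nat.card_congr e, Nat.card_sigma, Finset.sum_congr rfl (fun z _ => hF.card_trace _ hyfix),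
    Finset.sum_const, smul_eq_mul, Finset.card_univ, ← Nat.card_eq_fintype_card, hF.card_norm _ hyfix hy0]

end UCoords

end CfsgLib.SylowU3
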