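import Mathlib
import Cfsg.Prelude.Def_Classical
import Cfsg.Agent.Lib.SylowU3.Coords

/-!
The Sylow 2-subgroups of `SU₃(2ⁿ)` and `PSU₃(2ⁿ)` carry unitary coordinates.
-/

set_option autoImplicit false

open Matrix

namespace CfsgLib.SylowU3

variable {F : Type*} [Field F]

theorem coe_mul3 (A B : SpecialLinearGroup (Fin 3) F) :
    ((A * B : SpecialLinearGroup (Fin 3) F) : Matrix (Fin 3) (Fin 3) F) =
      (A : Matrix (Fin 3) (Fin 3) F) * (B : Matrix (Fin 3) (Fin 3) F) := rfl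

theorem coe_one3 : ((1 : SpecialLinearGroup (Fin 3) F) : Matrix (Fin 3) (Fin 3) F) = 1 := rfl

theorem coe_pow3 (A : SpecialLinearGroup (Fin 3) F) (k : ℕ) :
    ((A ^ k : SpecialLinearGroup (Fin 3) F) : Matrix (Fin 3) (Fin 3) F) =
      (A : Matrix (Fin 3) (Fin 3) F) ^ k := rfl

theorem mem_SU3_iff (s : F →+* F) (q : ℕ) (hs : ∀ x, s x = x ^ q) (g : SpecialLinearGroup (Fin 3) F) :
    g ∈ Cfsg.SU 3 F q ↔
      (g : Matrix (Fin 3) (Fin 3) F)ᵀ * (g : Matrix (Fin 3) (Fin 3) F).map s = 1 := by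
  have hh : ∀ u v : Fin 3 → F, Cfsg.hermForm 3 F q u v = u ⬝ᵥ (fun i => s (v i)) := fun u v => by
    simp [Cfsg.hermForm, dotProduct, hs]
  have key : ∀ u v : Fin 3 → F,
      Cfsg.hermForm 3 F q ((g : Matrix (Fin 3) (Fin 3) F) *ᵥ u) ((g : Matrix (Fin 3) (Fin 3) F) *ᵥ v)
        = u ⬝ᵥ (((g : Matrix (Fin 3) (Fin 3) F)ᵀ * (g : Matrix (Fin 3) (Fin 3) F).map s) *ᵥ fun i => s (v i)) := by
    intro u v
    rw [hh, show (fun i => s (((g : Matrix (Fin 3) (Fin 3) F) *ᵥ v) i)) = (g : Matrix (Fin 3) (Fin 3) F).map s *ᵥ fun i => s (v i) from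
      funext fun i => by simp [Matrix.mulVec, dotProduct, map_sum, map_mul],
      ← Matrix.mulVec_mulVec, dotProduct_mulVec u _ᵀ, vecMul_transpose]
  have hval : Cfsg.slToMat 3 F g = (g : Matrix (Fin 3) (Fin 3) F) := rfl
  change (∀ u v, Cfsg.hermForm 3 F q (Cfsg.slToMat 3 F g *ᵥ u) (Cfsg.slToMat 3 F g *ᵥ v) = Cfsg.hermForm 3 F q u v) ↔ _
  simp only [hval, key]
  refine ⟨fun h => ?_, fun h u v => by rw [h, one_mulVec, hh]⟩
  ext i j
  have h1 := h (Pi.single i 1) (Pi.single j 1)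
  have hsingle : (fun k => s ((Pi.single j 1 : Fin 3 → F) k)) = Pi.single j 1 := by
    funext k
    by_cases hk : k = j
    · subst hk; simp
    · simp [hk]
  rw [hh, hsingle] at h1
  simpa [Matrix.one_apply, Pi.single_apply, eq_comm] using h1

section Model

variable (s : F →+* F) {q : ℕ} (hF : UField F s q) (a : F) (ha : a + s a = 1)

/-- The antidiagonal form. -/
def uJ : Matrix (Fin 3) (Fin 3) F := !![0, 0, 1; 0, 1, 0; 1, 0, 0]

/-- The change of basis to the antidiagonal form. -/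
def uB : SpecialLinearGroup (Fin 3) F :=
  ⟨!![1, 0, a; 1, 0, a - 1; 0, 1, 0], by rw [det_fin_three]; simp⟩

/-- The unitriangular element with coordinates `(z, y)`. -/
def uM (z y : F) : SpecialLinearGroup (Fin 3) F :=
  ⟨!![1, s z, y; 0, 1, z; 0, 0, 1], by rw [det_fin_three]; simp⟩

@[simp] theorem coe_uB : ((uB a : SpecialLinearGroup (Fin 3) F) : Matrix (Fin 3) (Fin 3) F) =
    !![1, 0, a; 1, 0, a - 1; 0, 1, 0] := rfl

@[simp] theorem coe_uM (z y : F) : ((uM s z y : SpecialLinearGroup (Fin 3) F) : Matrix (Fin 3) (Fin 3) F) =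
    !![1, s z, y; 0, 1, z; 0, 0, 1] := rfl

theorem uM_ext {z y z' y' : F} (h₁ : z = z') (h₂ : y = y') : uM s z y = uM s z' y' := by rw [h₁, h₂]

theorem eq_uM {g : SpecialLinearGroup (Fin 3) F} {z y : F}
    (h : (g : Matrix (Fin 3) (Fin 3) F) = !![1, s z, y; 0, 1, z; 0, 0, 1]) : g = uM s z y :=
  Subtype.ext h

/-- The subgroup of `SL₃` preserving the antidiagonal Hermitian form. -/
def uK (q : ℕ) : Subgroup (SpecialLinearGroup (Fin 3) F) :=
  (Cfsg.SU 3 F q).map (MulAut.conj (uB a)⁻¹).toMonoidHom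

variable {s} {a}

include hF ha in
theorem uB_gram : ((uB a : SpecialLinearGroup (Fin 3) F) : Matrix (Fin 3) (Fin 3) F)ᵀ *
    ((uB a : SpecialLinearGroup (Fin 3) F) : Matrix (Fin 3) (Fin 3) F).map s = uJ := by
  have hneg : ∀ x : F, -x = x := fun x => neg_eq_of_add_eq_zero_left (hF.two x)
  have h1 : a - 1 = a + 1 := by rw [sub_eq_add_neg, hneg]
  have h11 : (1 : F) + 1 = 0 := hF.two 1
  ext i j
  fin_cases i <;> fin_cases j <;> simp [uB, uJ, h1, Matrix.mul_apply, Fin.sum_univ_three, h11]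
  · rw [show s a + (s a + 1) = (s a + s a) + 1 by ring, hF.two, zero_add]
  · rw [show a + (a + 1) = (a + a) + 1 by ring, hF.two, zero_add]
  · rw [show a * s a + (a + 1) * (s a + 1) = (a * s a + a * s a) + (a + s a) + 1 by ring, hF.two, ha, zero_add, h11]

include hF ha in
theorem mem_uK_iff (hs : ∀ x, s x = x ^ q) (N : SpecialLinearGroup (Fin 3) F) :
    N ∈ uK a q ↔ (N : Matrix (Fin 3) (Fin 3) F)ᵀ * uJ * (N : Matrix (Fin 3) (Fin 3) F).map s = uJ := by
  have hB := uB_gram hF ha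
  have hmem : N ∈ uK a q ↔ uB a * N * (uB a)⁻¹ ∈ Cfsg.SU 3 F q := by
    constructor
    · rintro ⟨g, hg, rfl⟩
      simpa [MulAut.conj_apply, mul_assoc] using hg
    · intro h
      exact ⟨_, h, by simp [MulAut.conj_apply, mul_assoc]⟩
  rw [hmem, mem_SU3_iff s q hs]
  simp only [coe_mul3]
  generalize hC : (((uB a)⁻¹ : SpecialLinearGroup (Fin 3) F) : Matrix (Fin 3) (Fin 3) F) = C
  have hBC : ((uB a : SpecialLinearGroup (Fin 3) F) : Matrix (Fin 3) (Fin 3) F) * C = 1 := by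
    rw [← hC, ← coe_mul3, mul_inv_cancel, coe_one3]
  have hCB : C * ((uB a : SpecialLinearGroup (Fin 3) F) : Matrix (Fin 3) (Fin 3) F) = 1 := by
    rw [← hC, ← coe_mul3, inv_mul_cancel, coe_one3]
  generalize hBd : ((uB a : SpecialLinearGroup (Fin 3) F) : Matrix (Fin 3) (Fin 3) F) = B at hB hBC hCB ⊢
  generalize (N : Matrix (Fin 3) (Fin 3) F) = M
  constructor
  · intro h
    calc Mᵀ * uJ * M.map s = (B * M)ᵀ * (B * M).map s := by
          rw [← hB, Matrix.map_mul, transpose_mul]; simp only [Matrix.mul_assoc]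
      _ = (B * M * C * B)ᵀ * (B * M * C * B).map s := by rw [Matrix.mul_assoc _ C B, hCB, Matrix.mul_one]
      _ = Bᵀ * ((B * M * C)ᵀ * (B * M * C).map s) * B.map s := by
          rw [Matrix.map_mul, transpose_mul (B * M * C) B]; simp only [Matrix.mul_assoc]
      _ = uJ := by rw [h, Matrix.mul_one, hB]
  · intro h
    calc (B * M * C)ᵀ * (B * M * C).map s
        = Cᵀ * (Mᵀ * (Bᵀ * B.map s) * M.map s) * C.map s := by
          simp only [Matrix.map_mul, transpose_mul, Matrix.mul_assoc]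
      _ = Cᵀ * (Bᵀ * B.map s) * C.map s := by rw [hB, h]
      _ = (B * C)ᵀ * (B * C).map s := by simp only [Matrix.map_mul, transpose_mul, Matrix.mul_assoc]
      _ = 1 := by rw [hBC]; simp

include hF in
theorem uM_mul (z y z' y' : F) : uM s z y * uM s z' y' = uM s (z + z') (y + y' + s z * z') := by
  ext i j
  fin_cases i <;> fin_cases j <;> simp [coe_mul3, Matrix.mul_apply, Fin.sum_univ_three, map_add] <;> ring

include hF ha in
theorem uM_mem (hs : ∀ x, s x = x ^ q) {z y : F} (h : y + s y = z * s z) : uM s z y ∈ uK a q := by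
  rw [mem_uK_iff hF ha hs]
  ext i j
  fin_cases i <;> fin_cases j <;> simp [uM, uJ, Matrix.mul_apply, Fin.sum_univ_three, hF.invol, hF.two]
  calc s y + z * s z + y = (y + s y) + z * s z := by ring
    _ = 0 := by rw [h, hF.two]

/-- The standard Sylow 2-subgroup of `uK`. -/
def uSyl (hF : UField F s q) : Subgroup (SpecialLinearGroup (Fin 3) F) where
  carrier := {g | ∃ z y, y + s y = z * s z ∧ g = uM s z y}
  one_mem' := ⟨0, 0, by simp, by ext i j; fin_cases i <;> fin_cases j <;> simp [coe_mul3, coe_one3]⟩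
  mul_mem' := by
    rintro _ _ ⟨z, y, h, rfl⟩ ⟨z', y', h', rfl⟩
    refine ⟨_, _, ?_, uM_mul hF z y z' y'⟩
    simp only [map_add, map_mul, hF.invol]
    linear_combination h + h'
  inv_mem' := by
    rintro _ ⟨z, y, h, rfl⟩
    refine ⟨z, y + z * s z, ?_, inv_eq_of_mul_eq_one_right ?_⟩
    · simp only [map_add, map_mul, hF.invol]
      calc y + z * s z + (s y + s z * z) = (y + s y) + (z * s z + z * s z) := by ring
        _ = z * s z := by rw [hF.two, add_zero, h]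
    · rw [uM_mul hF, hF.two]
      have : y + (y + z * s z) + s z * z = 0 := by
        calc y + (y + z * s z) + s z * z = (y + y) + (z * s z + z * s z) := by ring
          _ = 0 := by rw [hF.two, hF.two, add_zero]
      rw [this]
      ext i j
      fin_cases i <;> fin_cases j <;> simp [coe_mul3, coe_one3]

include hF in
theorem coe_uSyl {g : SpecialLinearGroup (Fin 3) F} (hg : g ∈ uSyl hF) :
    g = uM s ((g : Matrix (Fin 3) (Fin 3) F) 1 2) ((g : Matrix (Fin 3) (Fin 3) F) 0 2) := by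
  obtain ⟨z, y, -, rfl⟩ := hg
  simp [coe_mul3, coe_one3]

/-- The coordinates on the standard Sylow subgroup. -/
def uSylCoords : UCoords ↥(uSyl hF) s where
  c g := ((g.1 : Matrix (Fin 3) (Fin 3) F) 1 2, (g.1 : Matrix (Fin 3) (Fin 3) F) 0 2)
  inj g g' h := by
    apply Subtype.ext
    rw [coe_uSyl hF g.2, coe_uSyl hF g'.2]
    exact congrArg₂ (uM s) (congrArg Prod.fst h) (congrArg Prod.snd h)
  cond g := by
    obtain ⟨z, y, h, hg⟩ := g.2
    simpa [hg, uM] using h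
  surj z y h := ⟨⟨uM s z y, z, y, h, rfl⟩, by simp [coe_mul3, coe_one3]⟩
  mul g g' := by
    obtain ⟨z, y, -, hg⟩ := g.2
    obtain ⟨z', y', -, hg'⟩ := g'.2
    have : ((g * g' : ↥(uSyl hF)) : SpecialLinearGroup (Fin 3) F) = uM s (z + z') (y + y' + s z * z') := by
      rw [Subgroup.coe_mul, hg, hg', uM_mul hF]
    rw [this, hg, hg']
    simp [coe_mul3, coe_one3]

include hF in
theorem eq_one_of_pow_two_pow {x : F} {k : ℕ} (h : x ^ (2 ^ k) = 1) : x = 1 := by
  haveI : CharP F 2 := CharTwo.of_one_ne_zero_of_two_eq_zero one_ne_zero (by rw [← one_add_one_eq_two, hF.two])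
  haveI : Fact (Nat.Prime 2) := ⟨Nat.prime_two⟩
  have h2 : (x + 1) ^ (2 ^ k) = 0 := by
    rw [add_pow_char_pow, h, one_pow, hF.two]
  calc x = (x + 1) + 1 := by rw [add_assoc, hF.two, add_zero]
    _ = 1 := by rw [eq_zero_of_pow_eq_zero h2, zero_add]

include hF ha in
theorem mem_uSyl_of_normalize (hs : ∀ x, s x = x ^ q) {N : SpecialLinearGroup (Fin 3) F} (hN : N ∈ uK a q)
    {k : ℕ} (hk : N ^ (2 ^ k) = 1) (hconj : N * uM s 0 1 * N⁻¹ ∈ uSyl hF) : N ∈ uSyl hF := by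
  obtain ⟨z', y', -, hcd⟩ := hconj
  have hsq : uM s z' y' * uM s z' y' = 1 := by
    rw [← hcd]
    have : uM s 0 (1 : F) * uM s 0 1 = 1 := by
      ext i j
      fin_cases i <;> fin_cases j <;> simp [coe_mul3, coe_one3, Matrix.mul_apply, Fin.sum_univ_three, hF.two]
    calc N * uM s 0 1 * N⁻¹ * (N * uM s 0 1 * N⁻¹) = N * (uM s 0 1 * uM s 0 1) * N⁻¹ := by group
      _ = 1 := by rw [this]; group
  have hz' : z' = 0 := by
    rw [uM_mul hF] at hsq
    have h02 := congrArg (fun g : SpecialLinearGroup (Fin 3) F => (g : Matrix (Fin 3) (Fin 3) F) 0 2) hsq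
    simpa [coe_mul3, coe_one3, hF.two] using h02
  subst hz'
  have hy' : y' ≠ 0 := by
    intro h0
    subst h0
    have h1 : uM s (0 : F) 0 = 1 := by ext i j; fin_cases i <;> fin_cases j <;> simp [coe_mul3, coe_one3]
    rw [h1] at hcd
    have h2 : uM s 0 (1 : F) = 1 := by
      have := congrArg (fun g => N⁻¹ * g * N) hcd
      simpa [mul_assoc] using this
    simpa [coe_mul3, coe_one3] using congrArg (fun g : SpecialLinearGroup (Fin 3) F => (g : Matrix (Fin 3) (Fin 3) F) 0 2) h2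
  have hm : (N : Matrix (Fin 3) (Fin 3) F) * (uM s 0 1 : SpecialLinearGroup (Fin 3) F) = ((uM s 0 y' : SpecialLinearGroup (Fin 3) F) : Matrix (Fin 3) (Fin 3) F) * N := by
    rw [← coe_mul3, ← coe_mul3, ← hcd, inv_mul_cancel_right]
  have e00 := congrFun (congrFun hm 0) 0
  have e01 := congrFun (congrFun hm 0) 1
  have e12 := congrFun (congrFun hm 1) 2
  simp [coe_mul3, coe_one3, Matrix.mul_apply, Fin.sum_univ_three, hy'] at e00 e01 e12
  set M := (N : Matrix (Fin 3) (Fin 3) F) with hM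
  have hpow : ∀ j : ℕ, (M ^ j) 0 0 = M 0 0 ^ j ∧ (M ^ j) 1 1 = M 1 1 ^ j ∧ (M ^ j) 2 2 = M 2 2 ^ j ∧
      (M ^ j) 1 0 = 0 ∧ (M ^ j) 2 0 = 0 ∧ (M ^ j) 2 1 = 0 := by
    intro j
    induction j with
    | zero => simp
    | succ j ih =>
      obtain ⟨i1, i2, i3, i4, i5, i6⟩ := ih
      simp [pow_succ, Matrix.mul_apply, Fin.sum_univ_three, i1, i2, i3, i4, i5, i6, e00, e01, e12]
  have hone : M ^ (2 ^ k) = 1 := by
    rw [hM, ← coe_pow3, hk, coe_one3]
  obtain ⟨d0, d1, d2, -, -, -⟩ := hpow (2 ^ k)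
  rw [hone] at d0 d1 d2
  simp at d0 d1 d2
  have f0 := eq_one_of_pow_two_pow hF d0.symm
  have f1 := eq_one_of_pow_two_pow hF d1.symm
  have f2 := eq_one_of_pow_two_pow hF d2.symm
  have hpres := (mem_uK_iff hF ha hs N).mp hN
  rw [← hM] at hpres
  have p12 := congrFun (congrFun hpres 1) 2
  have p22 := congrFun (congrFun hpres 2) 2
  simp [uJ, Matrix.mul_apply, Fin.sum_univ_three, e00, e01, f1, f2] at p12 p22
  have h01 : M 0 1 = s (M 1 2) := by
    linear_combination p12 - hF.two (s (M 1 2))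
  refine ⟨M 1 2, M 0 2, ?_, ?_⟩
  · linear_combination p22 - hF.two (M 1 2 * s (M 1 2))
  · ext i j
    fin_cases i <;> fin_cases j <;> simp [coe_mul3, coe_one3, ← hM, e00, e01, e12, f0, f1, f2, h01]

include hF ha in
theorem uSyl_le_uK (hs : ∀ x, s x = x ^ q) : uSyl hF ≤ uK a q := by
  rintro _ ⟨z, y, h, rfl⟩
  exact uM_mem hF ha hs h

include hF ha in
theorem exists_coords_uK [Finite F] (hs : ∀ x, s x = x ^ q) (P : Sylow 2 ↥(uK a q)) :
    Nonempty (UCoords ↥(P : Subgroup ↥(uK a q)) s) ∧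
      ∀ x ∈ (P : Subgroup ↥(uK a q)), x ∈ Subgroup.center ↥(uK a q) → x = 1 := by
  haveI : Fact (Nat.Prime 2) := ⟨Nat.prime_two⟩
  have hle := uSyl_le_uK hF ha hs
  let U : Subgroup ↥(uK a q) := (uSyl hF).subgroupOf (uK a q)
  let e : ↥U ≃* ↥(uSyl hF) := Subgroup.subgroupOfEquivOfLe hle
  let co : UCoords ↥U s := (uSylCoords hF).congr e
  have hUp : IsPGroup 2 ↥U := fun x => ⟨2, by
    have h1 : x * x * (x * x) = 1 := (co.mem_center_iff_sq hF _).mp (co.sq_mem_center hF x)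
    rw [show (2 : ℕ) ^ 2 = 2 * 2 from rfl, pow_mul, sq, sq, h1]⟩
  have hm01 : uM s 0 (1 : F) ∈ uSyl hF := ⟨0, 1, by simp [hF.two], rfl⟩
  let S : Sylow 2 ↥(uK a q) :=
    { toSubgroup := U
      isPGroup' := hUp
      is_maximal' := by
        intro Q hQ hUQ
        by_contra hne
        have hlt : U.subgroupOf Q < ⊤ := by
          rw [lt_top_iff_ne_top, Ne, Subgroup.subgroupOf_eq_top]
          exact fun h => hne (le_antisymm h hUQ)
        haveI := hQ.isNilpotent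
        obtain ⟨g, hg, hgU⟩ := SetLike.exists_of_lt (Group.normalizerCondition_of_isNilpotent _ hlt)
        apply hgU
        obtain ⟨k, hk⟩ := hQ g
        refine mem_uSyl_of_normalize hF ha hs (N := ((g : ↥(uK a q)) : SpecialLinearGroup (Fin 3) F)) (g : ↥(uK a q)).2 (k := k) ?_ ?_
        · have := congrArg (fun x : ↥Q => ((x : ↥(uK a q)) : SpecialLinearGroup (Fin 3) F)) hk
          simpa using this
        · exact (Subgroup.mem_normalizer_iff.mp hg ⟨⟨_, hle hm01⟩, hUQ (show _ ∈ uSyl hF from hm01)⟩).mp hm01 }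
  obtain ⟨g, hg⟩ := MulAction.exists_smul_eq ↥(uK a q) P S
  refine ⟨⟨co.congr (P.equiv S)⟩, fun x hx hxc => ?_⟩
  have hxU : x ∈ U := by
    have h2 : MulAut.conj g x ∈ (g • P : Sylow 2 ↥(uK a q)) := ⟨x, hx, rfl⟩
    rw [hg] at h2
    have h3 : MulAut.conj g x = x := by
      rw [MulAut.conj_apply, Subgroup.mem_center_iff.mp hxc g, mul_inv_cancel_right]
    rwa [h3] at h2
  obtain ⟨z, y, hzy, hxe⟩ := hxU
  have hz : z = 0 := by
    have hc := (co.mem_center_iff hF ⟨x, ⟨z, y, hzy, hxe⟩⟩).mp (Subgroup.mem_center_iff.mpr fun w =>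
      Subtype.ext (Subgroup.mem_center_iff.mp hxc w))
    change ((x : SpecialLinearGroup (Fin 3) F) : Matrix (Fin 3) (Fin 3) F) 1 2 = 0 at hc
    rw [show (x : SpecialLinearGroup (Fin 3) F) = uM s z y from hxe] at hc
    simpa [coe_mul3, coe_one3] using hc
  subst hz
  let Jel : SpecialLinearGroup (Fin 3) F := ⟨uJ, by
    rw [det_fin_three]; simp [uJ]; exact neg_eq_of_add_eq_zero_left (hF.two 1)⟩
  have hJ : Jel ∈ uK a q := by
    rw [mem_uK_iff hF ha hs]
    ext i j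
    fin_cases i <;> fin_cases j <;> simp [Jel, uJ, Matrix.mul_apply, Fin.sum_univ_three]
  have hcomm := congrArg (fun w : ↥(uK a q) => ((w : SpecialLinearGroup (Fin 3) F) : Matrix (Fin 3) (Fin 3) F) 2 2)
    (Subgroup.mem_center_iff.mp hxc ⟨Jel, hJ⟩)
  simp only [Subgroup.coe_mul, show (x : SpecialLinearGroup (Fin 3) F) = uM s 0 y from hxe, coe_mul3] at hcomm
  simp [Jel, uJ, Matrix.mul_apply, Fin.sum_univ_three] at hcomm
  subst hcomm
  apply Subtype.ext
  rw [show (x : SpecialLinearGroup (Fin 3) F) = uM s 0 0 from hxe]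
  ext i j
  fin_cases i <;> fin_cases j <;> simp [coe_mul3, coe_one3]

end Model

variable [Fintype F]

theorem exists_frob (n : ℕ) (hF : Fintype.card F = (2 ^ n) ^ 2) :
    ∃ (s : F →+* F), (∀ x, s x = x ^ (2 ^ n)) ∧ UField F s (2 ^ n) := by
  haveI : CharP F 2 := charP_of_card_eq_prime_pow (f := n * 2) (by rw [hF, pow_mul])
  haveI : Fact (Nat.Prime 2) := ⟨Nat.prime_two⟩
  exact ⟨iterateFrobenius F 2 n, fun x => iterateFrobenius_def 2 n x,
    uField_of_card n hF _ fun x => iterateFrobenius_def 2 n x⟩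

/-- The Sylow 2-subgroups of `SU₃(2ⁿ)` carry unitary coordinates and meet the centre trivially. -/
theorem exists_coords_SU (n : ℕ) (hF : Fintype.card F = (2 ^ n) ^ 2) (P : Sylow 2 ↥(Cfsg.SU 3 F (2 ^ n))) :
    ∃ (s : F →+* F), (∀ x, s x = x ^ (2 ^ n)) ∧ UField F s (2 ^ n) ∧
      Nonempty (UCoords ↥(P : Subgroup ↥(Cfsg.SU 3 F (2 ^ n))) s) ∧
      ∀ x ∈ (P : Subgroup ↥(Cfsg.SU 3 F (2 ^ n))), x ∈ Subgroup.center ↥(Cfsg.SU 3 F (2 ^ n)) → x = 1 := by
  obtain ⟨s, hs, hU⟩ := exists_frob n hF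
  obtain ⟨a, ha⟩ := hU.trace
  let e : ↥(Cfsg.SU 3 F (2 ^ n)) ≃* ↥(uK a (2 ^ n)) :=
    (MulAut.conj (uB a)⁻¹).subgroupMap _
  let Q : Sylow 2 ↥(uK a (2 ^ n)) := P.mapSurjective (f := e.toMonoidHom) e.surjective
  obtain ⟨⟨co⟩, hz⟩ := exists_coords_uK hU ha hs Q
  refine ⟨s, hs, hU, ⟨co.congr (e.subgroupMap (P : Subgroup ↥(Cfsg.SU 3 F (2 ^ n))))⟩, fun x hx hxc => ?_⟩
  have hec : e x ∈ Subgroup.center ↥(uK a (2 ^ n)) := Subgroup.mem_center_iff.mpr fun w => by
    obtain ⟨v, rfl⟩ := e.surjective w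
    rw [← map_mul, ← map_mul, Subgroup.mem_center_iff.mp hxc v]
  have := hz (e x) ⟨x, hx, rfl⟩ hec
  simpa using this

/-- The Sylow 2-subgroups of `PSU₃(2ⁿ)` carry unitary coordinates. -/
theorem exists_coords_PSU (n : ℕ) (hF : Fintype.card F = (2 ^ n) ^ 2) (P : Sylow 2 (Cfsg.PSU 3 F (2 ^ n))) :
    ∃ (s : F →+* F), (∀ x, s x = x ^ (2 ^ n)) ∧ UField F s (2 ^ n) ∧
      Nonempty (UCoords ↥(P : Subgroup (Cfsg.PSU 3 F (2 ^ n))) s) := by
  haveI : Fact (Nat.Prime 2) := ⟨Nat.prime_two⟩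
  let π := QuotientGroup.mk' (Subgroup.center ↥(Cfsg.SU 3 F (2 ^ n)))
  obtain ⟨Q, rfl⟩ := Sylow.mapSurjective_surjective (f := π) (QuotientGroup.mk'_surjective _) 2 P
  obtain ⟨s, hs, hU, ⟨co⟩, hz⟩ := exists_coords_SU n hF Q
  have hinj : Function.Injective (π.comp (Q : Subgroup ↥(Cfsg.SU 3 F (2 ^ n))).subtype) := by
    rw [← MonoidHom.ker_eq_bot_iff, eq_bot_iff]
    intro x hx
    exact Subtype.ext (hz x x.2 ((QuotientGroup.eq_one_iff _).mp hx))
  refine ⟨s, hs, hU, ⟨co.congr ((MonoidHom.ofInjective hinj).trans (MulEquiv.subgroupCongr ?_)).symm⟩⟩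
  rw [MonoidHom.range_comp, Subgroup.range_subtype]
  rfl

end CfsgLib.SylowU3
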