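import Mathlib
import Cfsg.Agent.Lib.SylowU3.Coords
import Cfsg.Agent.Lib.PLocal.Constrained
import Cfsg.Prelude.Def_Transfer

/-!
The automorphism group of the Sylow 2-subgroup of `SU₃(2ⁿ)`.
-/

set_option autoImplicit false

namespace CfsgLib.SylowU3

theorem zmod_two_cases : ∀ c : ZMod 2, c = 0 ∨ c = 1 := by decide

section Geometry

variable {F : Type*} [Field F] [Finite F] {s : F →+* F} {q : ℕ}

/-- An additive bijection fixing `1` and respecting commutation and norm fibres is multiplicative. -/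
theorem mul_of_preserves (hF : UField F s q) (g : F → F) (hg : Function.Bijective g)
    (hadd : ∀ u v, g (u + v) = g u + g v) (h1 : g 1 = 1)
    (hB : ∀ u v, s u * v = s v * u → s (g u) * g v = s (g v) * g u)
    (hN : ∀ u v, u * s u = v * s v → g u * s (g u) = g v * s (g v)) :
    ∀ u v, g (u * v) = g u * g v := by
  classical
  have hg0 : g 0 = 0 := by
    have h := hadd 0 0
    rw [add_zero] at h
    simpa using h.symm
  have heq : ∀ x y : F, x + y = 0 → x = y := fun x y hxy => by
    calc x = x + (y + y) := by rw [hF.two, add_zero]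
      _ = y := by rw [← add_assoc, hxy, zero_add]
  have hgk : ∀ x, s x = x → s (g x) = g x := by
    intro x hx
    have h := hB 1 x (by rw [map_one, one_mul, mul_one, hx])
    rw [h1, map_one, one_mul, mul_one] at h
    exact h.symm
  have hgne : ∀ u, u ≠ 0 → g u ≠ 0 := fun u hu h => hu (hg.1 (h.trans hg0.symm))
  have hscal : ∀ x u, s x = x → u ≠ 0 → ∃ r, s r = r ∧ g (x * u) = r * g u := by
    intro x u hx hu
    refine ⟨g (x * u) / g u, ?_, by rw [div_mul_cancel₀ _ (hgne u hu)]⟩
    have hsne : s (g u) ≠ 0 := fun h => hgne u hu (s.injective (h.trans (map_zero s).symm))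
    rw [map_div₀, div_eq_div_iff hsne (hgne u hu)]
    have h := hB u (x * u) (by rw [map_mul, hx]; ring)
    rw [← h, mul_comm]
  have huniq : ∀ w, s w ≠ w → ∀ p r p' r', s p = p → s r = r → s p' = p' → s r' = r' →
      p + r * w = p' + r' * w → p = p' ∧ r = r' := by
    intro w hw p r p' r' hp hr hp' hr' heq'
    have hr2 : r = r' := by
      by_contra hne
      apply hw
      have hw' : w = (p' - p) / (r - r') := by
        rw [eq_div_iff (sub_ne_zero.mpr hne)]
        linear_combination heq'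
      rw [hw', map_div₀, map_sub, map_sub, hp, hr, hp', hr']
    subst hr2
    exact ⟨add_right_cancel heq', rfl⟩
  obtain ⟨ω, hω⟩ := hF.trace
  have hωk : s ω ≠ ω := fun h => one_ne_zero (α := F) (by rw [← hω, h, hF.two])
  have hω0 : ω ≠ 0 := fun h => hωk (by rw [h, map_zero])
  have hgω : s (g ω) ≠ g ω := by
    intro h
    apply hωk
    have hinj : Function.Injective fun x : {x : F // s x = x} => (⟨g x, hgk _ x.2⟩ : {x : F // s x = x}) :=
      fun a b hab => Subtype.ext (hg.1 (congrArg Subtype.val hab))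
    obtain ⟨x, hx⟩ := Finite.surjective_of_injective hinj ⟨g ω, h⟩
    rw [← hg.1 (congrArg Subtype.val hx : g x = g ω)]
    exact x.2
  -- the coefficient of `g (x ω)`
  have hbase : ∀ x, s x = x → g (x * ω) = g x * g ω := by
    have hkey : ∀ x m, s x = x → s m = m → ∀ r rm, s r = r → s rm = rm → g (x * m * ω) = r * g ω →
        g (m * ω) = rm * g ω → r = g x * rm := by
      intro x m hx hm r rm hr hrm hxm hmω
      have hu : 1 + m * ω ≠ 0 := by
        intro h
        have := (huniq ω hωk 1 m 0 0 (map_one s) hm (map_zero s) (map_zero s) (by rw [h]; ring)).1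
        exact one_ne_zero this
      obtain ⟨R, hR, hRg⟩ := hscal x _ hx hu
      rw [show x * (1 + m * ω) = x + x * m * ω by ring, hadd, hadd, hxm, h1, hmω,
        show R * (1 + rm * g ω) = R + R * rm * g ω by ring] at hRg
      obtain ⟨e1, e2⟩ := huniq (g ω) hgω _ _ _ _ (hgk x hx) hr hR (by rw [map_mul, hR, hrm]) hRg
      rw [e2, e1]
    intro x hx
    obtain ⟨r, hr, hrg⟩ := hscal x ω hx hω0
    have := hkey x 1 hx (map_one s) r 1 hr (map_one s) (by rw [mul_one, hrg]) (by rw [one_mul, one_mul])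
    rw [hrg, this, mul_one]
  have hmulk : ∀ x y, s x = x → s y = y → g (x * y) = g x * g y := by
    intro x y hx hy
    have hxy : s (x * y) = x * y := by rw [map_mul, hx, hy]
    have hu : 1 + y * ω ≠ 0 := by
      intro h
      have := (huniq ω hωk 1 y 0 0 (map_one s) hy (map_zero s) (map_zero s) (by rw [h]; ring)).1
      exact one_ne_zero this
    obtain ⟨R, hR, hRg⟩ := hscal x _ hx hu
    rw [show x * (1 + y * ω) = x + x * y * ω by ring, hadd, hadd, hbase _ hxy, h1, hbase y hy,
      show R * (1 + g y * g ω) = R + R * g y * g ω by ring] at hRg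
    obtain ⟨e1, e2⟩ := huniq (g ω) hgω _ _ _ _ (hgk x hx) (hgk _ hxy) hR
      (by rw [map_mul, hR, hgk y hy]) hRg
    rw [e2, e1]
  have hgsum : ∀ x y, s x = x → s y = y → g (x + y * ω) = g x + g y * g ω := fun x y hx hy => by
    rw [hadd, hbase y hy]
  -- coordinates
  have hcoord : ∀ v, ∃ x y, s x = x ∧ s y = y ∧ v = x + y * ω := by
    let Φ : {x : F // s x = x} × {x : F // s x = x} → F := fun p => p.1 + p.2 * ω
    have hinj : Function.Injective Φ := by
      rintro ⟨⟨x, hx⟩, ⟨y, hy⟩⟩ ⟨⟨x', hx'⟩, ⟨y', hy'⟩⟩ h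
      obtain ⟨e1, e2⟩ := huniq ω hωk x y x' y' hx hy hx' hy' h
      subst e1 e2
      rfl
    have hbij := (Nat.bijective_iff_injective_and_card Φ).mpr ⟨hinj, by
      rw [Nat.card_prod, hF.card_fixed, hF.card_all, sq]⟩
    intro v
    obtain ⟨⟨x, y⟩, h⟩ := hbij.2 v
    exact ⟨x, y, x.2, y.2, h.symm⟩
  -- norms
  have hsqrt : ∀ c, s c = c → ∃ x, s x = x ∧ x * x = c := by
    have hinj : Function.Injective fun x : {x : F // s x = x} =>
        (⟨x.1 * x.1, by rw [map_mul, x.2]⟩ : {x : F // s x = x}) := by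
      intro a b hab
      have h : (a : F) * a = b * b := congrArg Subtype.val hab
      apply Subtype.ext
      apply heq
      apply mul_self_eq_zero.mp
      calc ((a : F) + b) * (a + b) = a * a + b * b + (a * b + a * b) := by ring
        _ = 0 := by rw [h, hF.two, hF.two, add_zero]
    intro c hc
    obtain ⟨x, hx⟩ := Finite.surjective_of_injective hinj ⟨c, hc⟩
    exact ⟨x, x.2, congrArg Subtype.val hx⟩
  have hnorm : ∀ v, g v * s (g v) = g (v * s v) := by
    intro v
    have hv : s (v * s v) = v * s v := by rw [map_mul, hF.invol, mul_comm]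
    obtain ⟨x, hx, hxx⟩ := hsqrt _ hv
    rw [hN v x (by rw [hx, hxx]), hgk x hx, ← hmulk x x hx hx, hxx]
  set t := ω + s ω with ht
  set n := ω * s ω with hn
  have hsn : s n = n := by rw [hn, map_mul, hF.invol, mul_comm]
  have hωω : ω * ω = n + t * ω := by
    calc ω * ω = ω * ω + (ω * s ω + ω * s ω) := by rw [hF.two, add_zero]
      _ = n + t * ω := by rw [ht, hn]; ring
  have hgωω : g ω * g ω = g n + g t * g ω := by
    have h1' : g ω * s (g ω) = g n := hnorm ω
    have h2 : g ω + s (g ω) = g t := by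
      have hv : (1 + ω) * s (1 + ω) = 1 + t + n := by rw [ht, hn, map_add, map_one]; ring
      have h := hnorm (1 + ω)
      rw [hv, hadd, hadd (1 + t) n, hadd 1 t, h1, map_add, map_one] at h
      calc g ω + s (g ω) = (1 + g ω) * (1 + s (g ω)) - 1 - g ω * s (g ω) := by ring
        _ = g t := by rw [h, h1']; ring
    calc g ω * g ω = g ω * g ω + (g ω * s (g ω) + g ω * s (g ω)) := by rw [hF.two, add_zero]
      _ = g ω * s (g ω) + (g ω + s (g ω)) * g ω := by ring
      _ = g n + g t * g ω := by rw [h1', h2]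
  have hst : s t = t := by rw [ht, map_add, hF.invol, add_comm]
  intro u v
  obtain ⟨x, y, hx, hy, rfl⟩ := hcoord u
  obtain ⟨x', y', hx', hy', rfl⟩ := hcoord v
  have e : (x + y * ω) * (x' + y' * ω) = (x * x' + y * y' * n) + (x * y' + y * x' + y * y' * t) * ω := by
    linear_combination (y * y') * hωω
  have k1 : s (x * x' + y * y' * n) = x * x' + y * y' * n := by simp [hx, hy, hx', hy', hsn]
  have k2 : s (x * y' + y * x' + y * y' * t) = x * y' + y * x' + y * y' * t := by
    simp [hx, hy, hx', hy', hst]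
  have hyy : s (y * y') = y * y' := by simp [hy, hy']
  rw [e, hgsum _ _ k1 k2, hgsum x y hx hy, hgsum x' y' hx' hy', hadd, hadd (x * y' + y * x'),
    hadd (x * y'), hmulk x x' hx hx', hmulk x y' hx hy', hmulk y x' hy hx', hmulk _ n hyy hsn,
    hmulk _ t hyy hst, hmulk y y' hy hy']
  linear_combination -(g y * g y') * hgωω

end Geometry

namespace UCoords

variable {T : Type*} [Group T] {F : Type*} [Field F] [Finite F] {s : F →+* F} {q : ℕ}
  (h : UCoords T s) (hF : UField F s q)

/-- The map induced by an automorphism on the first coordinate. -/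
noncomputable def act (φ : MulAut T) (z : F) : F := (h.c (φ (Classical.choose (h.exists_fst hF z)))).1

omit [Finite F] in
theorem act_fst (φ : MulAut T) (x : T) : h.act hF φ (h.c x).1 = (h.c (φ x)).1 := by
  unfold act
  set x' := Classical.choose (h.exists_fst hF (h.c x).1) with hx'
  have he : (h.c x').1 = (h.c x).1 := Classical.choose_spec (h.exists_fst hF (h.c x).1)
  have h1 : (h.c (x'⁻¹ * x)).1 = 0 := by
    have := congrArg Prod.fst (h.mul x' (x'⁻¹ * x))
    rw [mul_inv_cancel_left, ← he] at this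
    simpa using this.symm
  have h2 : φ (x'⁻¹ * x) ∈ Subgroup.center T := by
    rw [h.mem_center_iff_sq hF, ← map_mul, (h.mul_self_eq_one_iff hF _).mpr h1, map_one]
  have h3 := congrArg Prod.fst (h.mul (φ x') (φ (x'⁻¹ * x)))
  rw [← map_mul, mul_inv_cancel_left, (h.mem_center_iff hF _).mp h2] at h3
  simpa using h3.symm

/-- The action of the automorphism group on the first coordinate. -/
noncomputable def actHom : MulAut T →* Equiv.Perm F :=
  MonoidHom.mk' (fun φ =>
    { toFun := h.act hF φ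
      invFun := h.act hF φ⁻¹
      left_inv := fun z => by
        obtain ⟨x, rfl⟩ := h.exists_fst hF z
        rw [h.act_fst, h.act_fst, MulAut.inv_apply_self]
      right_inv := fun z => by
        obtain ⟨x, rfl⟩ := h.exists_fst hF z
        rw [h.act_fst, h.act_fst, MulAut.apply_inv_self] })
    (fun φ ψ => Equiv.ext fun z => by
      obtain ⟨x, rfl⟩ := h.exists_fst hF z
      show h.act hF (φ * ψ) _ = h.act hF φ (h.act hF ψ _)
      rw [h.act_fst, h.act_fst, h.act_fst]
      rfl)

omit [Finite F] in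
theorem actHom_fst (φ : MulAut T) (x : T) : h.actHom hF φ (h.c x).1 = (h.c (φ x)).1 :=
  h.act_fst hF φ x

include h hF in
theorem exists_semilinear (φ : MulAut T) :
    ∃ (a : Fˣ) (σ : F ≃+* F), ∀ z, h.actHom hF φ z = a * σ z := by
  classical
  set g : F → F := fun z => h.actHom hF φ z with hgdef
  have hfst : ∀ x, g (h.c x).1 = (h.c (φ x)).1 := h.actHom_fst hF φ
  have hgb : Function.Bijective g := (h.actHom hF φ).bijective
  have hadd : ∀ u v, g (u + v) = g u + g v := by
    intro u v
    obtain ⟨x, rfl⟩ := h.exists_fst hF u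
    obtain ⟨y, rfl⟩ := h.exists_fst hF v
    rw [show (h.c x).1 + (h.c y).1 = (h.c (x * y)).1 by rw [h.mul], hfst, hfst, hfst, map_mul, h.mul]
  have hB : ∀ u v, s u * v = s v * u → s (g u) * g v = s (g v) * g u := by
    intro u v huv
    obtain ⟨x, rfl⟩ := h.exists_fst hF u
    obtain ⟨y, rfl⟩ := h.exists_fst hF v
    rw [hfst, hfst]
    apply (h.commute_iff _ _).mp
    rw [← map_mul, ← map_mul, (h.commute_iff x y).mpr huv]
  have hN : ∀ u v, u * s u = v * s v → g u * s (g u) = g v * s (g v) := by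
    intro u v huv
    obtain ⟨x, rfl⟩ := h.exists_fst hF u
    obtain ⟨y, rfl⟩ := h.exists_fst hF v
    have h1 : x * x = y * y := h.inj (by rw [h.sq_coords hF, h.sq_coords hF, huv])
    have h2 : (h.c (φ x * φ x)) = h.c (φ y * φ y) := by rw [← map_mul, h1, map_mul]
    rw [h.sq_coords hF, h.sq_coords hF] at h2
    rw [hfst, hfst]
    exact congrArg Prod.snd h2
  have hg0 : g 0 = 0 := by
    have h1 := hadd 0 0
    rw [add_zero] at h1
    simpa using h1.symm
  have ha : g 1 ≠ 0 := fun h1 => one_ne_zero (hgb.1 (h1.trans hg0.symm))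
  set a : Fˣ := Units.mk0 _ ha with hadef
  set g' : F → F := fun z => ((a⁻¹ : Fˣ) : F) * g z with hg'
  have hg'b : Function.Bijective g' :=
    ((Equiv.mulLeft₀ ((a⁻¹ : Fˣ) : F) (Units.ne_zero _)).bijective).comp hgb
  have hmul := mul_of_preserves hF g' hg'b (fun u v => by simp only [hg', hadd, mul_add])
    (by simp only [hg']; exact a.inv_mul)
    (fun u v huv => by
      simp only [hg', map_mul]
      linear_combination (s ((a⁻¹ : Fˣ) : F) * ((a⁻¹ : Fˣ) : F)) * hB u v huv)
    (fun u v huv => by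
      simp only [hg', map_mul]
      linear_combination (((a⁻¹ : Fˣ) : F) * s ((a⁻¹ : Fˣ) : F)) * hN u v huv)
  let σ : F ≃+* F :=
    { Equiv.ofBijective g' hg'b with
      map_mul' := hmul
      map_add' := fun u v => by
        show g' (u + v) = g' u + g' v
        simp only [hg', hadd, mul_add] }
  refine ⟨a, σ, fun z => ?_⟩
  show g z = a * (((a⁻¹ : Fˣ) : F) * g z)
  rw [← mul_assoc, Units.mul_inv, one_mul]

variable {n : ℕ} (hs : ∀ x, s x = x ^ (2 ^ n))

include h hF hs in
theorem exists_lift (a : Fˣ) (σ : F ≃+* F) : ∃ φ : MulAut T, ∀ z, h.actHom hF φ z = a * σ z := by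
  classical
  have hsσ : ∀ z, s (σ z) = σ (s z) := fun z => by rw [hs, hs, map_pow]
  have hN : s ((a : F) * s a) = (a : F) * s a := by rw [map_mul, hF.invol, mul_comm]
  have hcond : ∀ x : T, (a : F) * s a * σ (h.c x).2 + s ((a : F) * s a * σ (h.c x).2) =
      (a : F) * σ (h.c x).1 * s ((a : F) * σ (h.c x).1) := fun x => by
    rw [map_mul s _ (σ (h.c x).2), hN, hsσ, ← mul_add, ← map_add, h.cond, map_mul, map_mul, hsσ]
    ring
  choose f hf using fun x => h.surj _ _ (hcond x)
  have hmul : ∀ x y, f (x * y) = f x * f y := fun x y => h.inj (by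
    rw [hf, h.mul, h.mul, hf, hf]
    refine Prod.ext ?_ ?_
    · simp only [map_add, mul_add]
    · simp only [map_add, map_mul, hsσ]
      ring)
  have hinj : Function.Injective f := fun x y hxy => by
    have h1 := congrArg h.c hxy
    rw [hf, hf] at h1
    apply h.inj
    refine Prod.ext ?_ ?_
    · exact σ.injective (mul_left_cancel₀ a.ne_zero (congrArg Prod.fst h1))
    · exact σ.injective (mul_left_cancel₀ (mul_ne_zero a.ne_zero fun h0 =>
        a.ne_zero (s.injective (h0.trans (map_zero s).symm))) (congrArg Prod.snd h1))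
  haveI : Finite T := Finite.of_injective h.c h.inj
  let φ : MulAut T := MulEquiv.ofBijective (MonoidHom.mk' f hmul)
    (Finite.injective_iff_bijective.mp hinj)
  refine ⟨φ, fun z => ?_⟩
  obtain ⟨x, rfl⟩ := h.exists_fst hF z
  rw [h.actHom_fst]
  exact congrArg Prod.fst (hf x)

include h hF in
theorem ker_coords (φ : MulAut T) : φ ∈ (h.actHom hF).ker ↔ ∀ x, (h.c (φ x)).1 = (h.c x).1 := by
  rw [MonoidHom.mem_ker]
  constructor
  · intro hφ x
    rw [← h.actHom_fst hF, hφ]
    rfl
  · intro hφ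
    ext z
    obtain ⟨x, rfl⟩ := h.exists_fst hF z
    rw [h.actHom_fst, hφ]
    rfl

include h hF in
/-- The kernel of the action is the group of additive maps into the fixed field. -/
theorem exists_kerEquiv :
    ∃ d : (h.actHom hF).ker ≃ {f : F →+ F // ∀ z, s (f z) = f z},
      ∀ (φ : (h.actHom hF).ker) (x : T),
        (h.c ((φ : MulAut T) x)).2 = (h.c x).2 + (d φ).1 (h.c x).1 := by
  classical
  haveI : Finite T := Finite.of_injective h.c h.inj
  have hk : ∀ φ : (h.actHom hF).ker, ∀ x, (h.c ((φ : MulAut T) x)).1 = (h.c x).1 := fun φ =>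
    (h.ker_coords hF _).mp φ.2
  have hfixc : ∀ φ : (h.actHom hF).ker, ∀ x, x ∈ Subgroup.center T → (φ : MulAut T) x = x := by
    intro φ x hx
    rw [h.mem_center_iff hF] at hx
    have hy : s (h.c x).2 = (h.c x).2 := by
      have h1 := h.cond x
      rw [hx, zero_mul] at h1
      calc s (h.c x).2 = (h.c x).2 + (h.c x).2 + s (h.c x).2 := by rw [hF.two, zero_add]
        _ = (h.c x).2 := by rw [add_assoc, h1, add_zero]
    obtain ⟨w, hw⟩ : ∃ w, w * s w = (h.c x).2 := by
      by_cases h0 : (h.c x).2 = 0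
      · exact ⟨0, by simp [h0]⟩
      · have : Nat.card {z : F // z * s z = (h.c x).2} ≠ 0 := by rw [hF.card_norm _ hy h0]; omega
        obtain ⟨⟨w, hw⟩⟩ := (Nat.card_ne_zero.mp this).1
        exact ⟨w, hw⟩
    obtain ⟨u, hu⟩ := h.exists_fst hF w
    have hx' : x = u * u := h.inj (by rw [h.sq_coords hF, hu, hw]; exact Prod.ext hx rfl)
    rw [hx', map_mul]
    exact h.inj (by rw [h.sq_coords hF, h.sq_coords hF, hk])
  have hwd : ∀ φ : (h.actHom hF).ker, ∀ x x', (h.c x).1 = (h.c x').1 →
      (h.c ((φ : MulAut T) x)).2 + (h.c x).2 = (h.c ((φ : MulAut T) x')).2 + (h.c x').2 := by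
    intro φ x x' hxx
    obtain ⟨m, hx'⟩ : ∃ m, x' = x * m := ⟨x⁻¹ * x', (mul_inv_cancel_left x x').symm⟩
    have hm1 : (h.c m).1 = 0 := by
      have := congrArg Prod.fst (h.mul x m)
      rw [← hx', ← hxx] at this
      simpa using this.symm
    have hmc := hfixc φ m ((h.mem_center_iff hF m).mpr hm1)
    rw [hx', map_mul, hmc, h.mul, h.mul, hm1]
    simp only [mul_zero, add_zero]
    linear_combination -hF.two (h.c m).2
  choose pre hpre using h.exists_fst hF
  let toF : (h.actHom hF).ker → {f : F →+ F // ∀ z, s (f z) = f z} := fun φ =>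
    ⟨AddMonoidHom.mk' (fun z => (h.c ((φ : MulAut T) (pre z))).2 + (h.c (pre z)).2) (fun u v => by
        rw [hwd φ (pre (u + v)) (pre u * pre v) (by rw [hpre, h.mul, hpre, hpre]), map_mul, h.mul, h.mul,
          hk, hk, hpre, hpre]
        linear_combination hF.two (s u * v)),
      fun z => by
        show s (_ + _) = _ + _
        have e1 := h.cond ((φ : MulAut T) (pre z))
        have e2 := h.cond (pre z)
        rw [hk, hpre] at e1
        rw [hpre] at e2
        rw [map_add]
        linear_combination e1 + e2 - hF.two (h.c ((φ : MulAut T) (pre z))).2 - hF.two (h.c (pre z)).2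
          + hF.two (z * s z)⟩
  have htoF : ∀ (φ : (h.actHom hF).ker) (x : T), (h.c ((φ : MulAut T) x)).2 = (h.c x).2 + (toF φ).1 (h.c x).1 := by
    intro φ x
    show _ = _ + ((h.c ((φ : MulAut T) (pre (h.c x).1))).2 + (h.c (pre (h.c x).1)).2)
    rw [hwd φ (pre (h.c x).1) x (hpre _)]
    linear_combination -hF.two (h.c x).2
  refine ⟨Equiv.ofBijective toF ⟨?_, ?_⟩, htoF⟩
  · intro φ ψ hφψ
    apply Subtype.ext
    ext x
    apply h.inj
    refine Prod.ext ?_ ?_
    · rw [hk, hk]
    · rw [htoF, htoF, hφψ]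
  · rintro ⟨f, hf⟩
    have hcond : ∀ x, (h.c x).2 + f (h.c x).1 + s ((h.c x).2 + f (h.c x).1) = (h.c x).1 * s (h.c x).1 :=
      fun x => by
        rw [map_add, hf]
        linear_combination h.cond x + hF.two (f (h.c x).1)
    choose φ hφ using fun x => h.surj _ _ (hcond x)
    have hmul : ∀ x y, φ (x * y) = φ x * φ y := fun x y => h.inj (by
      rw [hφ, h.mul, h.mul, hφ, hφ]
      refine Prod.ext rfl ?_
      simp only [map_add]
      ring)
    have hinj : Function.Injective φ := fun x y hxy => by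
      have h1 := congrArg h.c hxy
      rw [hφ, hφ] at h1
      have e1 : (h.c x).1 = (h.c y).1 := (Prod.mk.inj h1).1
      have e2 : (h.c x).2 + f (h.c x).1 = (h.c y).2 + f (h.c y).1 := (Prod.mk.inj h1).2
      rw [e1] at e2
      exact h.inj (Prod.ext e1 (add_right_cancel e2))
    let Φ : MulAut T := MulEquiv.ofBijective (MonoidHom.mk' φ hmul)
      (Finite.injective_iff_bijective.mp hinj)
    have hΦ : Φ ∈ (h.actHom hF).ker := (h.ker_coords hF Φ).mpr fun x => by
      rw [show Φ x = φ x from rfl, hφ]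
    refine ⟨⟨Φ, hΦ⟩, Subtype.ext (AddMonoidHom.ext fun z => ?_)⟩
    have h1 := htoF ⟨Φ, hΦ⟩ (pre z)
    rw [show Φ (pre z) = φ (pre z) from rfl, hφ, hpre] at h1
    exact (add_left_cancel h1).symm

include h hF hs in
theorem aut_structure [Fintype F] (hq : q = 2 ^ n) (hn : 1 ≤ n) :
    Cfsg.IsElementaryAbelian 2 (Cfsg.pCore 2 (MulAut T)) ∧
      Nat.card ↥(Cfsg.pCore 2 (MulAut T)) = 2 ^ (2 * n ^ 2) ∧
      Nat.card (MulAut T) = 2 ^ (2 * n ^ 2) * (2 * n * ((2 ^ n) ^ 2 - 1)) := by
  classical
  subst hq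
  haveI : Fact (Nat.Prime 2) := ⟨Nat.prime_two⟩
  haveI : CharP F 2 := CharTwo.of_one_ne_zero_of_two_eq_zero one_ne_zero (by rw [← one_add_one_eq_two, hF.two])
  letI : Algebra (ZMod 2) F := ZMod.algebra F 2
  haveI : Finite T := Finite.of_injective h.c h.inj
  set K := (h.actHom hF).ker with hK
  obtain ⟨d, hd⟩ := h.exists_kerEquiv hF
  have hk : ∀ φ : K, ∀ x, (h.c ((φ : MulAut T) x)).1 = (h.c x).1 := fun φ =>
    (h.ker_coords hF _).mp φ.2
  have hFcard : Nat.card F = 2 ^ (2 * n) := by rw [hF.card_all, ← pow_mul, mul_comm]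
  have hfr : Module.finrank (ZMod 2) F = 2 * n := by
    have h1 := Module.natCard_eq_pow_finrank (K := ZMod 2) (V := F)
    rw [hFcard, Nat.card_zmod] at h1
    exact (Nat.pow_right_injective (le_refl 2) h1).symm
  -- order of the kernel
  have hKcard : Nat.card K = 2 ^ (2 * n ^ 2) := by
    let k0 : Submodule (ZMod 2) F :=
      { carrier := {y | s y = y}
        add_mem' := fun {a b} (ha : s a = a) (hb : s b = b) => by show s (a + b) = _; rw [map_add, ha, hb]
        zero_mem' := map_zero s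
        smul_mem' := fun c x (hx : s x = x) => by
          show s (c • x) = c • x
          rcases zmod_two_cases c with rfl | rfl <;> simp [hx] }
    let e : {f : F →+ F // ∀ z, s (f z) = f z} ≃ (F →ₗ[ZMod 2] k0) :=
      { toFun := fun f => (AddMonoidHom.mk' (fun z => (⟨f.1 z, f.2 z⟩ : k0))
          (fun u v => Subtype.ext (map_add f.1 u v))).toZModLinearMap 2
        invFun := fun L => ⟨AddMonoidHom.mk' (fun z => (L z : F)) (fun u v => by simp),
          fun z => (L z).2⟩
        left_inv := fun f => rfl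
        right_inv := fun L => rfl }
    rw [Nat.card_congr d, Nat.card_congr e,
      Nat.card_congr ((Module.finBasis (ZMod 2) F).constr (ZMod 2)).toEquiv.symm, Nat.card_fun,
      Nat.card_fin, hfr]
    have hk0 : Nat.card k0 = 2 ^ n := hF.card_fixed
    rw [hk0, ← pow_mul]
    ring_nf
  have hKsq : ∀ φ ∈ K, φ ^ 2 = 1 := by
    intro φ hφ
    ext x
    apply h.inj
    rw [sq, MulAut.mul_apply, MulAut.one_apply]
    refine Prod.ext ?_ ?_
    · rw [hk ⟨φ, hφ⟩, hk ⟨φ, hφ⟩]
    · rw [hd ⟨φ, hφ⟩, hd ⟨φ, hφ⟩, hk ⟨φ, hφ⟩]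
      linear_combination hF.two ((d ⟨φ, hφ⟩).1 (h.c x).1)
  have hKp : IsPGroup 2 K := fun φ => ⟨1, Subtype.ext (by rw [pow_one]; exact hKsq _ φ.2)⟩
  -- the range
  let P : Fˣ × (F ≃+* F) → Equiv.Perm F := fun p =>
    p.2.toEquiv.trans (Equiv.mulLeft₀ (p.1 : F) p.1.ne_zero)
  have hP : ∀ p z, P p z = p.1 * p.2 z := fun p z => rfl
  have hPinj : Function.Injective P := by
    rintro ⟨a, σ⟩ ⟨b, τ⟩ hab
    have h1 : ∀ z, (a : F) * σ z = b * τ z := fun z => congrArg (fun π : Equiv.Perm F => π z) hab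
    have hab' : a = b := Units.ext (by simpa using h1 1)
    subst hab'
    exact Prod.ext rfl (RingEquiv.ext fun z => mul_left_cancel₀ a.ne_zero (h1 z))
  have hrange : ∀ π, π ∈ (h.actHom hF).range ↔ ∃ p, P p = π := by
    intro π
    constructor
    · rintro ⟨φ, rfl⟩
      obtain ⟨a, σ, hσ⟩ := h.exists_semilinear hF φ
      exact ⟨(a, σ), Equiv.ext fun z => (hσ z).symm⟩
    · rintro ⟨⟨a, σ⟩, rfl⟩
      obtain ⟨φ, hφ⟩ := h.exists_lift hF hs a σ
      exact ⟨φ, Equiv.ext hφ⟩
  have haut : Nat.card (F ≃+* F) = 2 * n := by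
    let e : (F ≃+* F) ≃ (F ≃ₐ[ZMod 2] F) :=
      { toFun := fun σ => AlgEquiv.ofRingEquiv (f := σ) fun c => RingHom.congr_fun
          (Subsingleton.elim ((σ : F →+* F).comp (algebraMap (ZMod 2) F)) (algebraMap (ZMod 2) F)) c
        invFun := fun σ => σ.toRingEquiv
        left_inv := fun σ => rfl
        right_inv := fun σ => rfl }
    rw [Nat.card_congr e, IsGalois.card_aut_eq_finrank, hfr]
  have hRcard : Nat.card (h.actHom hF).range = ((2 ^ n) ^ 2 - 1) * (2 * n) := by
    rw [← haut, ← hF.card_all, ← Nat.card_units, ← Nat.card_prod]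
    exact (Nat.card_congr (Equiv.ofBijective
      (fun p => (⟨P p, (hrange _).mpr ⟨p, rfl⟩⟩ : (h.actHom hF).range))
      ⟨fun p p' hp => hPinj (congrArg Subtype.val hp), fun π => by
        obtain ⟨p, hp⟩ := (hrange _).mp π.2
        exact ⟨p, Subtype.ext hp⟩⟩)).symm
  have htot : Nat.card (MulAut T) = 2 ^ (2 * n ^ 2) * (2 * n * ((2 ^ n) ^ 2 - 1)) := by
    rw [← K.card_mul_index, Subgroup.index_ker, hKcard, hRcard, mul_comm (2 * n)]
  -- the 2-core
  set O := Cfsg.pCore 2 (MulAut T) with hO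
  have hOp : IsPGroup 2 O := CfsgLib.PLoc.pCore_pgroup 2 _
  haveI hOn : O.Normal := Cfsg.pCore_normal 2 _
  have hOK : O = K := by
    refine le_antisymm (fun φ hφ => ?_) (CfsgLib.PLoc.le_pCore_of inferInstance hKp)
    rw [hK, MonoidHom.mem_ker]
    obtain ⟨a, σ, hσ⟩ := h.exists_semilinear hF φ
    have hσ1 : ∀ b : Fˣ, σ (b : F) = b := by
      intro b
      obtain ⟨μ, hμ⟩ := h.exists_lift hF hs b (RingEquiv.refl F)
      set χ := φ * μ * φ⁻¹ * μ⁻¹ with hχ
      have hχO : χ ∈ O := by
        rw [hχ, mul_assoc φ, mul_assoc φ]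
        exact mul_mem hφ (hOn.conj_mem _ (inv_mem hφ) μ)
      obtain ⟨k, hk2⟩ := hOp ⟨χ, hχO⟩
      have hχk : χ ^ (2 ^ k) = 1 := congrArg Subtype.val hk2
      have hact : ∀ z, h.actHom hF χ z = σ b / b * z := by
        intro z
        have e1 : h.actHom hF χ * h.actHom hF μ * h.actHom hF φ = h.actHom hF φ * h.actHom hF μ := by
          rw [← map_mul, ← map_mul, ← map_mul, hχ]; group
        obtain ⟨w, rfl⟩ := ((h.actHom hF μ * h.actHom hF φ).surjective) z
        have e2 := congrArg (fun π : Equiv.Perm F => π w) e1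
        simp only [Equiv.Perm.mul_apply, hμ, hσ, RingEquiv.refl_apply, map_mul] at e2
        simp only [Equiv.Perm.mul_apply, hμ, hσ, RingEquiv.refl_apply]
        rw [e2]
        field_simp
      have hpow : ∀ m : ℕ, ∀ z, (h.actHom hF χ ^ m) z = (σ b / b) ^ m * z := by
        intro m
        induction m with
        | zero => simp
        | succ m ih =>
          intro z
          rw [pow_succ', Equiv.Perm.mul_apply, hact, ih, pow_succ']
          ring
      have h1 := hpow (2 ^ k) 1
      rw [← map_pow, hχk, map_one (h.actHom hF), Equiv.Perm.one_apply, mul_one] at h1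
      have h1' : (σ b / b : F) ^ (2 ^ k) = 1 := h1.symm
      have hone : (σ b / b : F) = 1 := by
        have h2 : (σ b / b + 1 : F) ^ (2 ^ k) = 0 := by rw [add_pow_char_pow, h1', one_pow, hF.two]
        calc (σ b / b : F) = (σ b / b + 1) + 1 := by rw [add_assoc, hF.two, add_zero]
          _ = 1 := by rw [eq_zero_of_pow_eq_zero h2, zero_add]
      exact eq_of_div_eq_one hone
    have hσid : ∀ z, σ z = z := fun z => by
      by_cases hz : z = 0
      · rw [hz, map_zero]
      · exact hσ1 (Units.mk0 z hz)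
    have hpow : ∀ m : ℕ, ∀ z, (h.actHom hF φ ^ m) z = (a : F) ^ m * z := by
      intro m
      induction m with
      | zero => simp
      | succ m ih =>
        intro z
        rw [pow_succ', Equiv.Perm.mul_apply, hσ, hσid, ih, pow_succ']
        ring
    obtain ⟨k, hk2⟩ := hOp ⟨φ, hφ⟩
    have hφk : φ ^ (2 ^ k) = 1 := congrArg Subtype.val hk2
    have h1 := hpow (2 ^ k) 1
    rw [← map_pow, hφk, map_one (h.actHom hF), Equiv.Perm.one_apply, mul_one] at h1
    have h2 : ((a : F) + 1) ^ (2 ^ k) = 0 := by rw [add_pow_char_pow, ← h1]; simpa using hF.two (1 : F)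
    have ha1 : (a : F) = 1 := by
      calc (a : F) = ((a : F) + 1) + 1 := by rw [add_assoc, hF.two, add_zero]
        _ = 1 := by rw [eq_zero_of_pow_eq_zero h2, zero_add]
    ext z
    rw [hσ, hσid, ha1, one_mul]
    rfl
  refine ⟨⟨⟨⟨fun φ ψ => ?_⟩⟩, fun φ hφ => hKsq φ (hOK ▸ hφ)⟩, by rw [hOK, hKcard], htot⟩
  have hmem : ∀ χ : O, (χ : MulAut T)⁻¹ = χ := fun χ =>
    inv_eq_of_mul_eq_one_right (by rw [← sq]; exact hKsq _ (hOK ▸ χ.2))
  apply Subtype.ext
  push_cast
  calc (φ : MulAut T) * ψ = ((φ * ψ : O) : MulAut T)⁻¹ := (hmem (φ * ψ)).symm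
    _ = (ψ : MulAut T) * φ := by rw [Subgroup.coe_mul, mul_inv_rev, hmem, hmem]

end UCoords

end CfsgLib.SylowU3
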